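import Cfsg.Agent.Lib.SzEight.Data
import Cfsg.Agent.Lib.Concrete.StemPerm
import Cfsg.Agent.Lib.Concrete.ReachMask

/-!
# A fourfold cover of the Suzuki group over eight elements on two copies of 520 signed points
-/

set_option autoImplicit false
set_option maxRecDepth 8000
set_option linter.unusedSimpArgs false

namespace Cfsg.Lib.SzEight

open Cfsg.Lib.Concrete
open scoped commutatorElement

/-- An entry of a generator table. -/
def gV (i x : ℕ) : ℕ := tget 12 (genTab i) x
/-- An entry of an inverse table. -/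
def gW (i x : ℕ) : ℕ := tget 12 (invTab i) x
/-- The number of a point under its sign and copy. -/
def unP (x : ℕ) : ℕ := x % 520
/-- The block of a point. -/
def blkP (x : ℕ) : ℕ := x % 520 / 8
/-- The sign change. -/
def flipP (x : ℕ) : ℕ := x / 1040 * 1040 + (x % 1040 + 520) % 1040
/-- A neighbour. -/
def nbP (x k : ℕ) : ℕ := tget 12 (nbrTab.getD k 0) x
/-- The blocks of the neighbours. -/
def sigP (x : ℕ) : ℕ := (List.range 8).foldl (fun r k => Nat.lor r (2 ^ blkP (nbP x k))) 0

theorem gen_tables : ((List.range 2).all fun i => (List.range 2080).all fun x =>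
    Nat.blt (gV i x) 2080 && Nat.blt (gW i x) 2080 && Nat.beq (gV i (gW i x)) x && Nat.beq (gW i (gV i x)) x) = true := by
  decide +kernel

theorem gen_tables' (i : Fin 2) (x : Fin 2080) :
    gV i x < 2080 ∧ gW i x < 2080 ∧ gV i (gW i x) = x ∧ gW i (gV i x) = x := by
  have h := gen_tables
  simp only [List.all_eq_true, List.mem_range, Bool.and_eq_true, Nat.blt, Nat.ble_eq, Nat.beq_eq] at h
  obtain ⟨⟨⟨a, b⟩, c⟩, d⟩ := h i i.isLt x x.isLt
  exact ⟨a, b, c, d⟩

/-- A generator. -/
def gPerm (i : Fin 2) : Equiv.Perm (Fin 2080) where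
  toFun x := ⟨gV i x, (gen_tables' i x).1⟩
  invFun x := ⟨gW i x, (gen_tables' i x).2.1⟩
  left_inv x := Fin.ext (gen_tables' i x).2.2.2
  right_inv x := Fin.ext (gen_tables' i x).2.2.1

/-- The cover. -/
abbrev Gam : Subgroup (Equiv.Perm (Fin 2080)) := Subgroup.closure (Set.range gPerm)

/-- The generators as elements. -/
def cGen (i : ℕ) : Gam := ⟨gPerm (Fin.ofNat 2 i), Subgroup.subset_closure ⟨_, rfl⟩⟩

theorem cGen_closure : Subgroup.closure {g | g = cGen 0 ∨ g = cGen 1} = ⊤ := by
  refine top_le_iff.1 ?_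
  rw [← Subgroup.closure_closure_coe_preimage]
  refine Subgroup.closure_mono ?_
  rintro ⟨x, hx⟩ ⟨i, hi⟩
  have hi' : gPerm i = x := hi
  fin_cases i
  · exact Or.inl (Subtype.ext hi'.symm)
  · exact Or.inr (Subtype.ext hi'.symm)

/-- The value of a word. -/
def cWord (W : List ℕ) : Gam := wordProd cGen W

/-- The action on the points. -/
def act : Gam →* Equiv.Perm (Fin 2080) := Gam.subtype

/-- The image of a point under a word. -/
def gImg (W : List ℕ) (x : ℕ) : ℕ := W.foldr (fun i y => gV (i % 2) y) x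

theorem cWord_act (W : List ℕ) (x : Fin 2080) : (act (cWord W) x : ℕ) = gImg W x := by
  induction W with
  | nil => simp [cWord, wordProd, gImg]
  | cons i W ih =>
    rw [show cWord (i :: W) = cGen i * cWord W by simp [cWord, wordProd], map_mul, Equiv.Perm.mul_apply,
      show gImg (i :: W) x = gV (i % 2) (gImg W x) from rfl, ← ih]
    rfl

theorem gen_shape : ((List.range 2).all fun i => (List.range 2080).all fun x =>
    Nat.beq (gV i x / 1040) (x / 1040) && Nat.beq (gV i (flipP x)) (flipP (gV i x)) &&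
    Nat.beq (unP (gV i x)) (unP (gV i (unP x))) && Nat.beq (blkP (gV i x)) (blkP (gV i (8 * blkP x))) &&
    ((List.range 8).all fun k => (List.range 8).any fun k' => Nat.beq (gV i (nbP x k)) (nbP (gV i x) k'))) = true := by
  decide +kernel

theorem nb_lt : ((List.range 8).all fun k => (List.range 2080).all fun x => Nat.blt (nbP x k) 2080) = true := by
  decide +kernel

theorem nb_lt' {x k : ℕ} (hx : x < 2080) (hk : k < 8) : nbP x k < 2080 := by
  have h := nb_lt
  simp only [List.all_eq_true, List.mem_range, Nat.blt, Nat.ble_eq] at h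
  exact h k hk x hx

/-- The image of a number. -/
def imgN (g : Equiv.Perm (Fin 2080)) (x : ℕ) : ℕ := (g (Fin.ofNat 2080 x) : ℕ)

theorem imgN_lt (g : Equiv.Perm (Fin 2080)) (x : ℕ) : imgN g x < 2080 := (g _).isLt

theorem imgN_mul (g h : Equiv.Perm (Fin 2080)) (x : ℕ) : imgN (g * h) x = imgN g (imgN h x) := by
  simp only [imgN, Equiv.Perm.mul_apply, Fin.ofNat_val_eq_self]

theorem imgN_one {x : ℕ} (hx : x < 2080) : imgN 1 x = x := by
  simp [imgN, Nat.mod_eq_of_lt hx]

/-- The invariants of the cover. -/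
structure Good (g : Equiv.Perm (Fin 2080)) : Prop where
  copy : ∀ x < 2080, imgN g x / 1040 = x / 1040
  flip : ∀ x < 2080, imgN g (flipP x) = flipP (imgN g x)
  un : ∀ x < 2080, ∀ y < 2080, unP x = unP y → unP (imgN g x) = unP (imgN g y)
  blk : ∀ x < 2080, ∀ y < 2080, blkP x = blkP y → blkP (imgN g x) = blkP (imgN g y)
  nb : ∀ x < 2080, ∀ k < 8, ∃ k' < 8, imgN g (nbP x k) = nbP (imgN g x) k'

theorem flipP_lt {x : ℕ} (h : x < 2080) : flipP x < 2080 := by simp only [flipP]; omega

theorem good_gen (i : Fin 2) : Good (gPerm i) := by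
  have h := gen_shape
  simp only [List.all_eq_true, List.any_eq_true, List.mem_range, Bool.and_eq_true, Nat.beq_eq] at h
  have hi : ∀ x < 2080, imgN (gPerm i) x = gV i x := fun x hx => by
    show gV i (Fin.ofNat 2080 x : Fin 2080) = _
    rw [Fin.val_ofNat, Nat.mod_eq_of_lt hx]
  refine ⟨fun x hx => ?_, fun x hx => ?_, fun x hx y hy e => ?_, fun x hx y hy e => ?_, fun x hx k hk => ?_⟩
  · rw [hi x hx]; exact (h i i.isLt x hx).1.1.1.1
  · rw [hi x hx, hi _ (flipP_lt hx)]; exact (h i i.isLt x hx).1.1.1.2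
  · rw [hi x hx, hi y hy, (h i i.isLt x hx).1.1.2, (h i i.isLt y hy).1.1.2, e]
  · rw [hi x hx, hi y hy, (h i i.isLt x hx).1.2, (h i i.isLt y hy).1.2, e]
  · obtain ⟨k', hk', e⟩ := (h i i.isLt x hx).2 k hk
    exact ⟨k', hk', by rw [hi _ (nb_lt' hx hk), hi x hx]; exact e⟩

theorem good_mem {g : Equiv.Perm (Fin 2080)} (hg : g ∈ Gam) : Good g := by
  have hg' : g ∈ Submonoid.closure (Set.range gPerm) := by
    rw [← Subgroup.closure_toSubmonoid_of_finite]; exact hg
  clear hg
  induction hg' using Submonoid.closure_induction with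
  | mem g hg => obtain ⟨i, rfl⟩ := hg; exact good_gen i
  | one =>
    refine ⟨fun x hx => by rw [imgN_one hx], fun x hx => by rw [imgN_one hx, imgN_one (flipP_lt hx)],
      fun x hx y hy e => by rwa [imgN_one hx, imgN_one hy], fun x hx y hy e => by rwa [imgN_one hx, imgN_one hy],
      fun x hx k hk => ⟨k, hk, by rw [imgN_one hx, imgN_one (nb_lt' hx hk)]⟩⟩
  | mul a b _ _ ha hb =>
    refine ⟨fun x hx => ?_, fun x hx => ?_, fun x hx y hy e => ?_, fun x hx y hy e => ?_, fun x hx k hk => ?_⟩
    · rw [imgN_mul, ha.copy _ (imgN_lt _ _), hb.copy x hx]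
    · rw [imgN_mul, imgN_mul, hb.flip x hx, ha.flip _ (imgN_lt _ _)]
    · rw [imgN_mul, imgN_mul]; exact ha.un _ (imgN_lt _ _) _ (imgN_lt _ _) (hb.un x hx y hy e)
    · rw [imgN_mul, imgN_mul]; exact ha.blk _ (imgN_lt _ _) _ (imgN_lt _ _) (hb.blk x hx y hy e)
    · obtain ⟨k₁, hk₁, e₁⟩ := hb.nb x hx k hk
      obtain ⟨k₂, hk₂, e₂⟩ := ha.nb _ (imgN_lt b x) k₁ hk₁
      exact ⟨k₂, hk₂, by rw [imgN_mul, imgN_mul, e₁, e₂]⟩

theorem good (g : Gam) : Good (act g) := good_mem g.2

/-- The map on blocks. -/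
def blkFun (g : Gam) (b : Fin 65) : Fin 65 :=
  ⟨blkP (imgN (act g) (8 * b)), by have := imgN_lt (act g) (8 * (b : ℕ)); simp only [blkP]; omega⟩

theorem blk_eight (b : Fin 65) : blkP (8 * b) = b := by simp only [blkP]; omega

theorem blkFun_blk (g : Gam) {x : ℕ} (hx : x < 2080) :
    (blkFun g ⟨blkP x, by simp only [blkP]; omega⟩ : ℕ) = blkP (imgN (act g) x) := by
  show blkP (imgN (act g) (8 * blkP x)) = _
  refine (good g).blk _ (by simp only [blkP]; omega) x hx ?_
  simp only [blkP]; omega

theorem blkFun_mul (g h : Gam) (b : Fin 65) : blkFun (g * h) b = blkFun g (blkFun h b) := by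
  refine Fin.ext ?_
  show blkP (imgN (act (g * h)) (8 * b)) = _
  rw [map_mul, imgN_mul, ← blkFun_blk g (imgN_lt _ _)]
  rfl

theorem blkFun_one (b : Fin 65) : blkFun 1 b = b := by
  refine Fin.ext ?_
  show blkP (imgN (act 1) (8 * b)) = _
  rw [map_one, imgN_one (by omega), blk_eight]

/-- The action on the blocks. -/
def proj : Gam →* Equiv.Perm (Fin 65) :=
  MonoidHom.mk' (fun g => ⟨blkFun g, blkFun g⁻¹, fun b => by rw [← blkFun_mul, inv_mul_cancel, blkFun_one],
    fun b => by rw [← blkFun_mul, mul_inv_cancel, blkFun_one]⟩) fun g h => Equiv.ext (blkFun_mul g h)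

theorem proj_blk (g : Gam) {x : ℕ} (hx : x < 2080) :
    (proj g ⟨blkP x, by simp only [blkP]; omega⟩ : ℕ) = blkP (imgN (act g) x) := blkFun_blk g hx

theorem proj_word (W : List ℕ) (b : Fin 65) : (proj (cWord W) b : ℕ) = blkP (gImg W (8 * b)) := by
  show blkP (imgN (act (cWord W)) (8 * b)) = _
  rw [imgN, cWord_act, Fin.val_ofNat, Nat.mod_eq_of_lt (by omega)]

theorem sig_ok : ((List.range 2080).all fun x => Nat.beq (sigP x) (sigP (unP x))) = true ∧
    ((List.range 520).all fun u => (List.range 8).all fun j =>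
      !(Nat.beq (Nat.land (sigP u) (sigP (8 * (u / 8) + j))) (sigP u)) || Nat.beq u (8 * (u / 8) + j)) = true ∧
    ((List.range 2080).all fun x => (List.range 8).all fun k => (List.range 8).all fun k' =>
      !(Nat.beq (unP (nbP x k)) (unP (nbP x k'))) || Nat.beq k k') = true := by decide +kernel

theorem sig_bit {x j : ℕ} : (sigP x).testBit j = true ↔ ∃ k < 8, blkP (nbP x k) = j := by
  unfold sigP
  have key : ∀ (l : List ℕ) (r : ℕ), (l.foldl (fun r k => Nat.lor r (2 ^ blkP (nbP x k))) r).testBit j = true ↔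
      r.testBit j = true ∨ ∃ k ∈ l, blkP (nbP x k) = j := by
    intro l
    induction l with
    | nil => simp
    | cons a l ih =>
      intro r
      rw [List.foldl_cons, ih, show Nat.lor r (2 ^ blkP (nbP x a)) = r ||| 2 ^ blkP (nbP x a) from rfl,
        Nat.testBit_or, Bool.or_eq_true, Nat.testBit_two_pow, decide_eq_true_iff]
      simp [or_assoc]
  rw [key]
  simp

theorem fix_un {g : Gam} (hg : proj g = 1) {x : ℕ} (hx : x < 2080) : unP (imgN (act g) x) = unP x := by
  have hb : ∀ y < 2080, blkP (imgN (act g) y) = blkP y := fun y hy => by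
    rw [← proj_blk g hy, hg]; rfl
  have hsub : ∀ j, (sigP x).testBit j = true → (sigP (imgN (act g) x)).testBit j = true := fun j hj => by
    obtain ⟨k, hk, rfl⟩ := sig_bit.1 hj
    obtain ⟨k', hk', e⟩ := (good g).nb x hx k hk
    exact sig_bit.2 ⟨k', hk', by rw [← e, hb _ (nb_lt' hx hk)]⟩
  obtain ⟨h1, h2, -⟩ := sig_ok
  simp only [List.all_eq_true, List.mem_range, Nat.beq_eq, Bool.or_eq_true, Bool.not_eq_true',
    ← Bool.not_eq_true] at h1 h2
  set u := unP x with hu
  set v := unP (imgN (act g) x) with hv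
  have hblk : v / 8 = u / 8 := hb x hx
  have hv520 : v < 520 := Nat.mod_lt _ (by norm_num)
  have hu520 : u < 520 := Nat.mod_lt _ (by norm_num)
  have h3 := h2 u hu520 (v % 8) (Nat.mod_lt _ (by norm_num))
  rw [← hblk, Nat.div_add_mod] at h3
  refine ((h3.resolve_left (not_not.2 ?_))).symm
  refine Nat.eq_of_testBit_eq fun j => ?_
  rw [show Nat.land (sigP u) (sigP v) = sigP u &&& sigP v from rfl, Nat.testBit_and]
  cases hj : (sigP u).testBit j
  · rfl
  · rw [hu, ← h1 x hx] at hj
    have := hsub j hj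
    rw [h1 _ (imgN_lt _ _)] at this
    simpa [hv] using this

theorem reach_all : ((List.range 2080).all fun x => Nat.testBit (ReachMask.reach 2080
    ((List.range 8).map fun k c => nbP c k) 8 (Nat.lor (2 ^ 1040) 1)) x) = true := by decide +kernel

theorem fix_all {g : Gam} (hg : proj g = 1) (h0 : imgN (act g) 0 = 0) (h1 : imgN (act g) 1040 = 1040) : g = 1 := by
  obtain ⟨-, -, hinj⟩ := sig_ok
  simp only [List.all_eq_true, List.mem_range, Nat.beq_eq, Bool.or_eq_true, Bool.not_eq_true',
    ← Bool.not_eq_true] at hinj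
  have hr := reach_all
  simp only [List.all_eq_true, List.mem_range] at hr
  refine Subtype.ext (Equiv.ext fun x => Fin.ext ?_)
  have key := ReachMask.reach_sound (N := 2080) (fs := (List.range 8).map fun k c => nbP c k)
    (P := fun c => c < 2080 → imgN (act g) c = c) (fun c hc hP f hf _ => ?_) 8 (Nat.lor (2 ^ 1040) 1) ?_
    x (hr x x.isLt) x.isLt
  · rw [imgN, Fin.ofNat_val_eq_self] at key
    exact key
  · obtain ⟨k, hk, rfl⟩ := List.mem_map.1 hf
    have hk8 := List.mem_range.1 hk
    obtain ⟨k', hk', e⟩ := (good g).nb c hc k hk8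
    rw [hP hc] at e
    have hu := fix_un hg (nb_lt' hc hk8)
    rw [e] at hu
    have := (hinj c hc k' hk' k hk8).resolve_left (not_not.2 hu)
    rw [e, this]
  · intro c hc hc'
    rw [show Nat.lor (2 ^ 1040) 1 = 2 ^ 1040 ||| 1 from rfl,
      Nat.testBit_or, Bool.or_eq_true, Nat.testBit_two_pow, decide_eq_true_iff] at hc
    rcases hc with rfl | hc
    · exact h1
    · rw [show (1 : ℕ) = 2 ^ 0 from rfl, Nat.testBit_two_pow, decide_eq_true_iff] at hc
      subst hc
      exact h0

/-- An element is known from its action on blocks and two values. -/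
theorem ext_two {g h : Gam} (hp : proj g = proj h) (h0 : imgN (act g) 0 = imgN (act h) 0)
    (h1 : imgN (act g) 1040 = imgN (act h) 1040) : g = h := by
  have key : ∀ x < 2080, imgN (act g) x = imgN (act h) x → imgN (act (g⁻¹ * h)) x = x := fun x hx e => by
    rw [map_mul, imgN_mul, ← e, ← imgN_mul, map_inv, inv_mul_cancel, imgN_one hx]
  exact inv_mul_eq_one.1 (fix_all (by rw [map_mul, map_inv, hp, inv_mul_cancel]) (key 0 (by norm_num) h0)
    (key 1040 (by norm_num) h1))

/-- The first central element. -/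
def tauA : Gam := cWord tauWordA
/-- The second central element. -/
def tauB : Gam := cWord tauWordB

theorem tau_words : ((List.range 2080).all fun x =>
    Nat.beq (gImg tauWordA x) (if x < 1040 then flipP x else x) &&
    Nat.beq (gImg tauWordB x) (if x < 1040 then x else flipP x)) = true := by decide +kernel

theorem tau_values {x : ℕ} (hx : x < 2080) : imgN (act tauA) x = (if x < 1040 then flipP x else x) ∧
    imgN (act tauB) x = (if x < 1040 then x else flipP x) := by
  have h := tau_words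
  simp only [List.all_eq_true, List.mem_range, Bool.and_eq_true, Nat.beq_eq] at h
  simp only [imgN, tauA, tauB, cWord_act, Fin.val_ofNat, Nat.mod_eq_of_lt hx]
  exact h x hx

theorem proj_tau : proj tauA = 1 ∧ proj tauB = 1 := by
  constructor <;> refine Equiv.ext fun b => Fin.ext ?_ <;>
    show blkP (imgN (act _) (8 * b)) = (b : ℕ) <;>
    simp only [(tau_values (show 8 * (b : ℕ) < 2080 by omega)).1, (tau_values (show 8 * (b : ℕ) < 2080 by omega)).2] <;>
    rw [if_pos (by omega)] <;> simp only [flipP, blkP] <;> omega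

theorem ker_cases {g : Gam} (hg : proj g = 1) : g = 1 ∨ g = tauA ∨ g = tauB ∨ g = tauA * tauB := by
  have c0 : ∀ x ∈ [0, 1040], imgN (act g) x = x ∨ imgN (act g) x = flipP x := by
    intro x hx
    have hx' : x < 2080 := by fin_cases hx <;> norm_num
    have h1 := fix_un hg hx'
    have h2 := (good g).copy x hx'
    have h3 := imgN_lt (act g) x
    simp only [unP, flipP] at h1 ⊢
    omega
  have a0 := (tau_values (show 0 < 2080 by norm_num)).1
  have a1 := (tau_values (show 1040 < 2080 by norm_num)).1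
  have b0 := (tau_values (show 0 < 2080 by norm_num)).2
  have b1 := (tau_values (show 1040 < 2080 by norm_num)).2
  rw [if_pos (by norm_num)] at a0 b0
  rw [if_neg (by norm_num)] at a1 b1
  have f0 : flipP 0 = 520 := rfl
  have f1 : flipP 1040 = 1560 := rfl
  have hp : ∀ z : Gam, proj z = 1 → proj g = proj z := fun z hz => hg.trans hz.symm
  rcases c0 0 (by simp) with e | e <;> rcases c0 1040 (by simp) with e' | e'
  · exact Or.inl (fix_all hg e e')
  · exact Or.inr (Or.inr (Or.inl (ext_two (hp _ proj_tau.2) (e.trans b0.symm) (e'.trans b1.symm))))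
  · exact Or.inr (Or.inl (ext_two (hp _ proj_tau.1) (e.trans a0.symm) (e'.trans a1.symm)))
  · refine Or.inr (Or.inr (Or.inr (ext_two (hp _ (by rw [map_mul, proj_tau.1, proj_tau.2, one_mul])) ?_ ?_)))
    · rw [map_mul, imgN_mul, b0, a0, e]
    · rw [map_mul, imgN_mul, b1, (tau_values (show flipP 1040 < 2080 by rw [f1]; norm_num)).1, if_neg (by rw [f1]; norm_num), e']

end Cfsg.Lib.SzEight
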