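import Cfsg.Agent.Lib.SzEight.Data
import Cfsg.Agent.Lib.Linear.Suzuki.LieForm

/-!
# The Suzuki group over eight elements on codes
-/

set_option autoImplicit false
set_option maxRecDepth 8000
set_option linter.unusedSimpArgs false
set_option linter.unusedSectionVars false

namespace Cfsg.Lib.SzEight

open Cfsg.Lib.Concrete Cfsg.Lib.Linear.Suz Matrix

/-- The product of two codes. -/
def gm (a b : ℕ) : ℕ := ([[0, 0, 0, 0, 0, 0, 0, 0], [0, 1, 2, 3, 4, 5, 6, 7], [0, 2, 4, 6, 3, 1, 7, 5],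
  [0, 3, 6, 5, 7, 4, 1, 2], [0, 4, 3, 7, 6, 2, 5, 1], [0, 5, 1, 4, 2, 7, 3, 6], [0, 6, 7, 1, 5, 3, 2, 4],
  [0, 7, 5, 2, 1, 6, 4, 3]].getD (a % 8) []).getD (b % 8) 0

/-- A power of a code. -/
def gp (a : ℕ) : ℕ → ℕ
  | 0 => 1
  | n + 1 => gm (gp a n) a

/-- The code of a unipotent element. -/
def uC (a b : ℕ) : List ℕ :=
  [1, a, Nat.xor b (gm a (gp a 4)), Nat.xor (Nat.xor (gm a b) (gm (gp a 2) (gp a 4))) (gp b 4),
    0, 1, gp a 4, b, 0, 0, 1, a, 0, 0, 0, 1]

/-- The code of a diagonal element. -/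
def dC (k : ℕ) : List ℕ := [gp k 3, 0, 0, 0, 0, gp k 2, 0, 0, 0, 0, gp k 5, 0, 0, 0, 0, gp k 4]

/-- The code of the identity. -/
def oneC : List ℕ := [1, 0, 0, 0, 0, 1, 0, 0, 0, 0, 1, 0, 0, 0, 0, 1]

/-- An entry of a code matrix. -/
def entC (M : List ℕ) (i j : ℕ) : ℕ := M.getD (4 * i + j) 0

/-- The product of two code matrices. -/
def mulC (A B : List ℕ) : List ℕ := (List.range 16).map fun n =>
  Nat.xor (Nat.xor (gm (entC A (n / 4) 0) (entC B 0 (n % 4))) (gm (entC A (n / 4) 1) (entC B 1 (n % 4))))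
    (Nat.xor (gm (entC A (n / 4) 2) (entC B 2 (n % 4))) (gm (entC A (n / 4) 3) (entC B 3 (n % 4))))

/-- The code matrix of a word. -/
def mWord (W : List ℕ) : List ℕ := W.foldr (fun i M => mulC (matTab (i % 2)) M) oneC

theorem word_checks : (matTab 0 = [0, 0, 0, 1, 0, 0, 1, 0, 0, 1, 0, 0, 1, 0, 0, 0]) ∧
    (matTab 1 = mulC (uC 1 0) (dC 2)) ∧
    (∀ a b : Fin 8, mWord (uWords.getD (8 * (a : ℕ) + b) []) = uC a b) ∧
    ∀ k : Fin 8, (k : ℕ) ≠ 0 → mWord (dWords.getD k []) = dC k := by decide +kernel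

theorem gm_bits : ∀ a b c : Fin 8, gm a (Nat.xor b c) = Nat.xor (gm a b) (gm a c) ∧
    Nat.xor b c < 8 ∧ gm a b < 8 := by decide +kernel

theorem gm_two : ∀ a : Fin 8, gm a 2 = gm 2 a ∧ gm (gm a 2) 2 = gm a 4 ∧ gm a 1 = (a : ℕ) ∧ gm a 0 = 0 := by
  decide +kernel

theorem gm_inv : ∀ a : Fin 8, (a : ℕ) ≠ 0 → ∃ b : Fin 8, gm a b = 1 := by decide +kernel

variable {F : Type*} [Field F] (z : F)

/-- The element of a code. -/
def ofC (a : ℕ) : F :=
  (if a.testBit 0 then 1 else 0) + (if a.testBit 1 then z else 0) + (if a.testBit 2 then z * z else 0)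

/-- The hypothesis on the generator of the field. -/
structure Root : Prop where
  two : (2 : F) = 0
  cube : z * z * z = z + 1

variable {z}

theorem ofC_mod (a : ℕ) : ofC z (a % 8) = ofC z a := by
  rw [ofC, ofC, show a % 8 = a % 2 ^ 3 from rfl]
  simp only [Nat.testBit_mod_two_pow]
  simp

theorem Root.xor (hz : Root z) (a b : ℕ) : ofC z (Nat.xor a b) = ofC z a + ofC z b := by
  have key : ∀ (t : F) (p q : Bool), (if (p ^^ q) then t else 0) = (if p then t else 0) + (if q then t else 0) := by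
    intro t p q
    cases p <;> cases q <;> simp
    linear_combination -(t * hz.two)
  simp only [ofC, show Nat.xor a b = a ^^^ b from rfl, Nat.testBit_xor, key]
  ring

theorem Root.mul_z (hz : Root z) (a : Fin 8) : ofC z (gm a 2) = ofC z a * z := by
  have t3 : (3 : F) = 1 := by linear_combination hz.two
  have t4 : (4 : F) = 0 := by linear_combination (2 : F) * hz.two
  have c3 : z ^ 3 = z + 1 := by linear_combination hz.cube
  fin_cases a <;> simp [ofC, gm, Nat.testBit, Nat.shiftRight_eq_div_pow] <;>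
    first
      | ring1
      | (ring_nf; simp [c3, hz.two, t3, t4]; first | done | ring1 | linear_combination (-z) * hz.two)

theorem gm_lt (a b : ℕ) : gm a b < 8 := by
  have h := (gm_bits ⟨a % 8, Nat.mod_lt _ (by norm_num)⟩ ⟨b % 8, Nat.mod_lt _ (by norm_num)⟩ 0).2.2
  simpa [gm, Nat.mod_mod] using h

theorem Root.mul (hz : Root z) (a b : ℕ) : ofC z (gm a b) = ofC z a * ofC z b := by
  have hm : gm a b = gm (a % 8) (b % 8) := by simp [gm, Nat.mod_mod]
  rw [hm, ← ofC_mod a, ← ofC_mod b]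
  set A : Fin 8 := ⟨a % 8, Nat.mod_lt _ (by norm_num)⟩
  set B : Fin 8 := ⟨b % 8, Nat.mod_lt _ (by norm_num)⟩
  show ofC z (gm A B) = ofC z A * ofC z B
  have h0 : ofC z 0 = 0 := by simp [ofC]
  have h1 : ∀ A : Fin 8, ofC z (gm A 4) = ofC z A * (z * z) := fun A => by
    rw [← (gm_two A).2.1, hz.mul_z ⟨gm A 2, gm_lt _ _⟩]
    show ofC z (gm A 2) * z = _
    rw [hz.mul_z A, mul_assoc]
  have t1 : ofC z 1 = 1 := by simp [ofC, Nat.testBit, Nat.shiftRight_eq_div_pow]
  have t2 : ofC z 2 = z := by simp [ofC, Nat.testBit, Nat.shiftRight_eq_div_pow]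
  have t4 : ofC z 4 = z * z := by simp [ofC, Nat.testBit, Nat.shiftRight_eq_div_pow]
  have hxor : ∀ x y : Fin 8, ofC z (gm A x) = ofC z A * ofC z x → ofC z (gm A y) = ofC z A * ofC z y →
      ofC z (gm A (Nat.xor x y)) = ofC z A * ofC z (Nat.xor x y) := fun x y hx hy => by
    rw [(gm_bits A x y).1, hz.xor, hz.xor, hx, hy, mul_add]
  have c1 : ofC z (gm A 1) = ofC z A * ofC z 1 := by rw [(gm_two A).2.2.1, t1, mul_one]
  have c2 : ofC z (gm A 2) = ofC z A * ofC z 2 := by rw [hz.mul_z, t2]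
  have c4 : ofC z (gm A 4) = ofC z A * ofC z 4 := by rw [h1, t4]
  have c0 : ofC z (gm A 0) = ofC z A * ofC z 0 := by rw [(gm_two A).2.2.2, h0, mul_zero]
  have c3 := hxor 1 2 c1 c2
  have c5 := hxor 1 4 c1 c4
  have c6 := hxor 2 4 c2 c4
  have c7 := hxor 3 4 c3 c4
  have all : ∀ x : Fin 8, ofC z (gm A x) = ofC z A * ofC z x := by
    intro x
    fin_cases x
    exacts [c0, c1, c2, c3, c4, c5, c6, c7]
  exact all B

theorem Root.pow (hz : Root z) (a : ℕ) : ∀ n, ofC z (gp a n) = ofC z a ^ n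
  | 0 => by simp [gp, ofC, Nat.testBit, Nat.shiftRight_eq_div_pow]
  | n + 1 => by rw [gp, hz.mul, hz.pow a n, pow_succ]

theorem Root.injective (hz : Root z) {a b : ℕ} (ha : a < 8) (hb : b < 8) (h : ofC z a = ofC z b) : a = b := by
  by_contra hne
  have hx : Nat.xor a b < 8 := Nat.xor_lt_two_pow (n := 3) ha hb
  obtain ⟨c, hc⟩ := gm_inv ⟨_, hx⟩ fun e => hne (Nat.xor_eq_zero_iff.1 e)
  have e := hz.mul (Nat.xor a b) c
  simp only at hc
  rw [hc, hz.xor, h] at e
  have t1 : ofC z 1 = 1 := by simp [ofC, Nat.testBit, Nat.shiftRight_eq_div_pow]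
  rw [t1] at e
  exact one_ne_zero (α := F) (by linear_combination e + ofC z b * ofC z c * hz.two)

/-- The matrix of a code. -/
def toMat (z : F) (M : List ℕ) : Matrix (Fin 4) (Fin 4) F := Matrix.of fun i j => ofC z (entC M i j)

theorem Root.toMat_mul (hz : Root z) (A B : List ℕ) : toMat z (mulC A B) = toMat z A * toMat z B := by
  ext i j
  simp only [toMat, Matrix.mul_apply, Matrix.of_apply, Fin.sum_univ_four]
  have e : entC (mulC A B) i j =
      Nat.xor (Nat.xor (gm (entC A i 0) (entC B 0 j)) (gm (entC A i 1) (entC B 1 j)))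
        (Nat.xor (gm (entC A i 2) (entC B 2 j)) (gm (entC A i 3) (entC B 3 j))) := by
    fin_cases i <;> fin_cases j <;> simp [entC, mulC, List.getD_eq_getElem?_getD]
  rw [e, hz.xor, hz.xor, hz.xor, hz.mul, hz.mul, hz.mul, hz.mul]
  simp only [Fin.val_zero, Fin.val_one, Fin.val_two, show ((3 : Fin 4) : ℕ) = 3 from rfl]
  ring

theorem toMat_one : toMat z oneC = 1 := by
  ext i j
  fin_cases i <;> fin_cases j <;> simp [toMat, entC, oneC, ofC, Nat.testBit, Nat.shiftRight_eq_div_pow]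

theorem ofC_zero : ofC z 0 = 0 := by simp [ofC]

theorem ofC_one : ofC z 1 = 1 := by simp [ofC, Nat.testBit, Nat.shiftRight_eq_div_pow]

theorem ofC_two : ofC z 2 = z := by simp [ofC, Nat.testBit, Nat.shiftRight_eq_div_pow]

variable [Fintype F]

theorem exists_root (hF : Fintype.card F = 8) : ∃ z : F, Root z := by
  classical
  have h := (⟨le_rfl, by rw [hF]; norm_num⟩ : Params F 1)
  have h2 := two_eq h
  obtain ⟨u, hu0, hu1⟩ := exists_ne_zero_one h
  have h7 : u ^ 7 = 1 := by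
    have := FiniteField.pow_card_sub_one_eq_one u hu0
    rwa [hF] at this
  have hsum : (u * u * u + u + 1) * (u * u * u + u * u + 1) = 0 := by
    have : (u - 1) * ((u * u * u + u + 1) * (u * u * u + u * u + 1)) = 0 := by
      linear_combination h7 + (u * u * u * u - u * u * u) * h2
    exact (mul_eq_zero.1 this).resolve_left (sub_ne_zero.2 hu1)
  rcases mul_eq_zero.1 hsum with e | e
  · exact ⟨u, h2, by linear_combination e - (u + 1) * h2⟩
  · refine ⟨u⁻¹, h2, ?_⟩
    field_simp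
    linear_combination -e + (u * u * u + u * u + 1) * h2 - (u * u + u * u * u) * h2

end Cfsg.Lib.SzEight
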