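import Cfsg.Agent.Lib.SzEight.Matrices
import Cfsg.Agent.Lib.Schur.StemIndex
import Cfsg.Agent.Lib.Schur.CoverBound
import Cfsg.Agent.Lib.Concrete.StemSplit
import Cfsg.Agent.Lib.Schur.Universe
import Cfsg.Agent.Lib.Linear.Suzuki.Sylow

/-!
# The Schur multiplier of the Suzuki group over eight elements
-/

set_option autoImplicit false
set_option maxRecDepth 8000

namespace Cfsg.Lib.SzEight

open MulAction Cfsg.Lib.Concrete
open scoped commutatorElement

/-- A generator of the subgroup of odd index. -/
def uGen (i : ℕ) : Gam := cWord (subWord i)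

/-- The subgroup of odd index. -/
abbrev UGrp : Subgroup Gam := Subgroup.closure (Set.range fun i : Fin 2 => uGen i)

/-- The generators inside the subgroup. -/
def sU (i : ℕ) : UGrp :=
  ⟨uGen ((Fin.ofNat 2 i : Fin 2) : ℕ), Subgroup.subset_closure ⟨Fin.ofNat 2 i, rfl⟩⟩

theorem sU_closure : Subgroup.closure {g | g = sU 0 ∨ g = sU 1} = ⊤ := by
  refine top_le_iff.1 ?_
  rw [← Subgroup.closure_closure_coe_preimage]
  refine Subgroup.closure_mono ?_
  rintro ⟨x, hx⟩ ⟨i, hi⟩
  have hi' : uGen i = x := hi
  fin_cases i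
  · exact Or.inl (Subtype.ext hi'.symm)
  · exact Or.inr (Subtype.ext hi'.symm)

/-- The tree word of a point. -/
def tW (x : ℕ) : List ℕ := certTwo.treeWord certTwo.N x

/-- The generator of the stabiliser. -/
def LSub : Subgroup UGrp := Subgroup.zpowers (sU 0)

/-- A point of the certificate. -/
def pt (x : ℕ) : UGrp ⧸ LSub := (wordProd sU (tW x) : UGrp)

/-- The check of an equation of words. -/
def sameOk (V W : List ℕ) : Bool :=
  Nat.beq (gImg V 0) (gImg W 0) && Nat.beq (gImg V 1040) (gImg W 1040) &&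
    (List.range 65).all fun b => Nat.beq (blkP (gImg V (8 * b))) (blkP (gImg W (8 * b)))

theorem eq_of_sameOk {V W : List ℕ} (h : sameOk V W = true) : cWord V = cWord W := by
  simp only [sameOk, Bool.and_eq_true, List.all_eq_true, List.mem_range, Nat.beq_eq] at h
  obtain ⟨⟨h0, h1⟩, hb⟩ := h
  refine ext_two (Equiv.ext fun b => Fin.ext (by rw [proj_word, proj_word]; exact hb b b.isLt)) ?_ ?_
  · simp only [imgN, cWord_act]
    exact h0
  · simp only [imgN, cWord_act]
    exact h1

theorem sub_tables : ((List.range 2).all fun i =>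
    ((List.range 2080).all fun x => Nat.beq (gImg (subWord i) x) (tget 12 (subTab i) x)) &&
    ((List.range 65).all fun b => Nat.beq (blkP (gImg (subWord i) (8 * b))) (tget 7 (subBlk i) b))) = true := by
  decide +kernel

/-- The image of a point under a word of the subgroup. -/
def uImg (W : List ℕ) (x : ℕ) : ℕ := W.foldr (fun i y => tget 12 (subTab (i % 2)) y) x

/-- The image of a block under a word of the subgroup. -/
def bImg (W : List ℕ) (b : ℕ) : ℕ := W.foldr (fun i y => tget 7 (subBlk (i % 2)) y) b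

theorem sU_val (i : ℕ) : ((sU i : UGrp) : Gam) = cWord (subWord (i % 2)) := rfl

theorem uImg_eq (W : List ℕ) (x : Fin 2080) : (act ((wordProd sU W : UGrp) : Gam) x : ℕ) = uImg W x := by
  induction W with
  | nil => simp [wordProd, uImg]
  | cons i W ih =>
    have h := sub_tables
    simp only [List.all_eq_true, List.mem_range, Bool.and_eq_true, Nat.beq_eq] at h
    rw [show wordProd sU (i :: W) = sU i * wordProd sU W by simp [wordProd], Subgroup.coe_mul, map_mul,
      Equiv.Perm.mul_apply, sU_val, cWord_act, (h (i % 2) (Nat.mod_lt _ two_pos)).1 _ (Fin.isLt _), ih]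
    rfl

theorem bImg_eq (W : List ℕ) (b : Fin 65) : (proj ((wordProd sU W : UGrp) : Gam) b : ℕ) = bImg W b := by
  induction W with
  | nil => simp [wordProd, bImg]
  | cons i W ih =>
    have h := sub_tables
    simp only [List.all_eq_true, List.mem_range, Bool.and_eq_true, Nat.beq_eq] at h
    rw [show wordProd sU (i :: W) = sU i * wordProd sU W by simp [wordProd], Subgroup.coe_mul, map_mul,
      Equiv.Perm.mul_apply, sU_val, proj_word, (h (i % 2) (Nat.mod_lt _ two_pos)).2 _ (Fin.isLt _), ih]
    rfl

/-- The check of an equation of words of the subgroup. -/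
def sameU (V W : List ℕ) : Bool :=
  Nat.beq (uImg V 0) (uImg W 0) && Nat.beq (uImg V 1040) (uImg W 1040) &&
    (List.range 65).all fun b => Nat.beq (bImg V b) (bImg W b)

theorem eq_of_sameU {V W : List ℕ} (h : sameU V W = true) : wordProd sU V = wordProd sU W := by
  simp only [sameU, Bool.and_eq_true, List.all_eq_true, List.mem_range, Nat.beq_eq] at h
  obtain ⟨⟨h0, h1⟩, hb⟩ := h
  refine Subtype.ext (ext_two (Equiv.ext fun b => Fin.ext (by rw [bImg_eq, bImg_eq]; exact hb b b.isLt)) ?_ ?_)
  · simp only [imgN, uImg_eq]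
    exact h0
  · simp only [imgN, uImg_eq]
    exact h1

/-- The check of an edge. -/
def edgeOk (e : ℕ) : Bool :=
  sameU (e / 256 :: tW (e % 256))
    (tW (certTwo.tab (e / 256) (e % 256)) ++ List.replicate (tget 3 expTab e) 0)

theorem edge_table : (List.range 512).all edgeOk = true := by decide +kernel

theorem cWord_append (V W : List ℕ) : cWord (V ++ W) = cWord V * cWord W := by simp [cWord, wordProd]

theorem wordProd_replicate (n : ℕ) : wordProd sU (List.replicate n 0) = sU 0 ^ n := by
  simp [wordProd, List.map_replicate, List.prod_replicate]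

theorem pt_act (i : ℕ) (hi : i < 2) (x : ℕ) (hx : x < 256) : sU i • pt x = pt (certTwo.tab i x) := by
  have h := edge_table
  simp only [List.all_eq_true, List.mem_range] at h
  have e := eq_of_sameU (h (256 * i + x) (by omega))
  rw [show (256 * i + x) / 256 = i by omega, show (256 * i + x) % 256 = x by omega,
    show ∀ V W : List ℕ, wordProd sU (V ++ W) = wordProd sU V * wordProd sU W from
      fun V W => by simp [wordProd], wordProd_replicate] at e
  show ((sU i * wordProd sU (tW x) : UGrp) : UGrp ⧸ LSub) = _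
  rw [show sU i * wordProd sU (tW x) = wordProd sU (i :: tW x) by simp [wordProd], e]
  exact QuotientGroup.mk_mul_of_mem _ (pow_mem (Subgroup.mem_zpowers _) _)

/-- The images of the two fixed points. -/
def ptsKey (x : ℕ) : ℕ := uImg (tW x) fixPts.1 + 2080 * uImg (tW x) fixPts.2

theorem sub_facts : gImg (subWord 0) fixPts.1 = fixPts.1 ∧ gImg (subWord 0) fixPts.2 = fixPts.2 ∧
    fixPts.1 < 2080 ∧ fixPts.2 < 2080 ∧ sameU (List.replicate 7 0) [] = true ∧
    gImg (subWord 0) 0 ≠ 0 := by decide +kernel

theorem keys_inj : ((List.range 256).all fun x => Nat.beq (ptsKey x) (tget 24 keyTab x)) = true ∧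
    ((List.range 256).all fun x => Nat.beq (((List.range 256).map fun a => tget 24 keyTab a).idxOf (tget 24 keyTab x)) x) = true := by
  decide +kernel

theorem pt_inj {x y : ℕ} (hx : x < 256) (hy : y < 256) (h : pt x = pt y) : x = y := by
  have hm : (wordProd sU (tW x))⁻¹ * wordProd sU (tW y) ∈ LSub := QuotientGroup.eq.1 h
  obtain ⟨k, hk⟩ := hm
  have hfix : ∀ p : Fin 2080, gImg (subWord 0) p = p → act (((sU 0 ^ k : UGrp) : Gam)) p = p := by
    intro p hp
    have h1 : act ((sU 0 : UGrp) : Gam) p = p := Fin.ext (by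
      show (act (cWord (subWord 0)) p : ℕ) = _
      rw [cWord_act]; exact hp)
    rw [Subgroup.coe_zpow, map_zpow]
    exact Equiv.Perm.zpow_apply_eq_self_of_apply_eq_self h1 k
  obtain ⟨a1, a2, l1, l2, -, -⟩ := sub_facts
  have key : ∀ (p : ℕ) (hp : p < 2080), gImg (subWord 0) p = p →
      uImg (tW y) p = uImg (tW x) p := by
    intro p hp hfp
    have e : wordProd sU (tW y) = wordProd sU (tW x) * sU 0 ^ k := by
      have hk' : sU 0 ^ k = (wordProd sU (tW x))⁻¹ * wordProd sU (tW y) := hk
      rw [hk', mul_inv_cancel_left]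
    have := congrArg (fun g : UGrp => act (g : Gam) ⟨p, hp⟩) e
    simp only [Subgroup.coe_mul, map_mul, Equiv.Perm.mul_apply, hfix ⟨p, hp⟩ hfp] at this
    have h2 := congrArg Fin.val this
    rwa [uImg_eq, uImg_eq] at h2
  have hkey : ptsKey y = ptsKey x := by rw [ptsKey, ptsKey, key _ l1 a1, key _ l2 a2]
  have hi := keys_inj
  simp only [List.all_eq_true, List.mem_range, Nat.beq_eq] at hi
  rw [hi.1 y hy, hi.1 x hx] at hkey
  rw [← hi.2 x hx, ← hkey, hi.2 y hy]

theorem pt_zero : pt 0 = ((1 : UGrp) : UGrp ⧸ LSub) := by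
  have : tW 0 = [] := by decide +kernel
  rw [pt, this]
  simp [wordProd]

theorem stab_pt : stabilizer UGrp (pt 0) = LSub := by
  rw [pt_zero]
  exact MulAction.stabilizer_quotient LSub

theorem cert_check : certTwo.check (xorVec certTwo.m) = true := by decide +kernel

theorem rels_check : certTwo.rels.all (fun W => sameU W []) = true := by decide +kernel

theorem rels_ok {W : List ℕ} (hW : W ∈ certTwo.rels) : wordProd sU W = 1 := by
  have h := rels_check
  simp only [List.all_eq_true] at h
  rw [eq_of_sameU (h W hW)]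
  rfl

theorem card_LSub : Nat.card LSub = 7 := by
  obtain ⟨-, -, -, -, h7, h0⟩ := sub_facts
  rw [LSub, Nat.card_zpowers]
  haveI : Fact (Nat.Prime 7) := ⟨by norm_num⟩
  refine orderOf_eq_prime ?_ fun e => h0 ?_
  · rw [← wordProd_replicate, eq_of_sameU h7]
    rfl
  · have := congrArg (fun g : UGrp => (act (g : Gam) 0 : ℕ)) e
    simpa [sU, uGen, cWord_act] using this

theorem card_UGrp : Nat.card UGrp = 1792 := by
  have h := StemPerm.index_stab certTwo (StemPerm.shape_of_check _ cert_check) pt sU sU_closure pt_act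
    fun x hx y hy e => pt_inj hx hy e
  rw [stab_pt] at h
  rw [← LSub.card_mul_index, card_LSub, h]
  rfl

theorem noStem_UGrp : NoStem 2 UGrp := by
  haveI := Fact.mk Nat.prime_two
  refine noStem_of_cert certTwo (xorVec _) cert_check pt sU sU_closure pt_act
    (fun y hy e => pt_inj hy (by decide) e) (fun W hW => rels_ok hW) ?_
  rw [stab_pt]
  exact liftsAt_of_coprime (by rw [card_LSub]; norm_num)

theorem tau_ne : tauA ≠ 1 ∧ tauB ≠ 1 ∧ tauA ≠ tauB ∧ tauA * tauB ≠ 1 := by
  have a0 := (tau_values (show 0 < 2080 by norm_num)).1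
  have b0 := (tau_values (show 0 < 2080 by norm_num)).2
  have b1 := (tau_values (show 1040 < 2080 by norm_num)).2
  rw [if_pos (by norm_num), show flipP 0 = 520 from rfl] at a0
  rw [if_pos (by norm_num)] at b0
  rw [if_neg (by norm_num), show flipP 1040 = 1560 from rfl] at b1
  refine ⟨fun e => ?_, fun e => ?_, fun e => ?_, fun e => ?_⟩
  · rw [e, map_one, imgN_one (by norm_num)] at a0; omega
  · rw [e, map_one, imgN_one (by norm_num)] at b1; omega
  · rw [e, b0] at a0; omega
  · have := congrArg (fun g => imgN (act g) 0) e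
    simp only [map_mul, imgN_mul, b0, map_one, imgN_one (show 0 < 2080 by norm_num), a0] at this
    omega

theorem ker_list {g : Gam} : g ∈ proj.ker ↔ g = 1 ∨ g = tauA ∨ g = tauB ∨ g = tauA * tauB := by
  refine ⟨fun h => ker_cases (MonoidHom.mem_ker.1 h), fun h => ?_⟩
  rcases h with rfl | rfl | rfl | rfl
  exacts [one_mem _, proj_tau.1, proj_tau.2, mul_mem (show tauA ∈ proj.ker from proj_tau.1) proj_tau.2]

theorem card_ker : Nat.card proj.ker = 4 := by
  obtain ⟨h1, h2, h3, h4⟩ := tau_ne
  have h : (proj.ker : Set Gam) = {1, tauA, tauB, tauA * tauB} := Set.ext fun g => ker_list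
  rw [← SetLike.coe_sort_coe, Nat.card_coe_set_eq, h,
    Set.ncard_insert_of_notMem (by simp [Ne.symm h1, Ne.symm h2, Ne.symm h4]),
    Set.ncard_insert_of_notMem (by simp [h3, h2]),
    Set.ncard_pair (fun e : tauB = tauA * tauB => h1 (mul_eq_right.1 e.symm))]

theorem ker_vals {g : Gam} (hg : g ∈ proj.ker) :
    ((∀ x < 1040, imgN (act g) x = x) ∨ ∀ x < 1040, imgN (act g) x = flipP x) ∧
      ((∀ x < 2080, 1040 ≤ x → imgN (act g) x = x) ∨ ∀ x < 2080, 1040 ≤ x → imgN (act g) x = flipP x) := by
  have A : ∀ x < 1040, imgN (act tauA) x = flipP x ∧ imgN (act tauB) x = x := fun x hx => by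
    have h := tau_values (show x < 2080 by omega)
    rwa [if_pos hx, if_pos hx] at h
  have B : ∀ x < 2080, 1040 ≤ x → imgN (act tauA) x = x ∧ imgN (act tauB) x = flipP x := fun x hx hx' => by
    have h := tau_values hx
    rwa [if_neg (by omega), if_neg (by omega)] at h
  rcases ker_list.1 hg with rfl | rfl | rfl | rfl
  · exact ⟨Or.inl fun x hx => by rw [map_one, imgN_one (by omega)],
      Or.inl fun x hx _ => by rw [map_one, imgN_one hx]⟩
  · exact ⟨Or.inr fun x hx => (A x hx).1, Or.inl fun x hx hx' => (B x hx hx').1⟩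
  · exact ⟨Or.inl fun x hx => (A x hx).2, Or.inr fun x hx hx' => (B x hx hx').2⟩
  · refine ⟨Or.inr fun x hx => by rw [map_mul, imgN_mul, (A x hx).2, (A x hx).1], Or.inr fun x hx hx' => ?_⟩
    rw [map_mul, imgN_mul, (B x hx hx').2, (B _ (flipP_lt hx) (by simp only [flipP]; omega)).1]

theorem ker_le_center : proj.ker ≤ Subgroup.center Gam := by
  intro c hc
  obtain ⟨hA, hB⟩ := ker_vals hc
  rw [Subgroup.mem_center_iff]
  intro g
  have hp : proj c = 1 := MonoidHom.mem_ker.1 hc
  refine ext_two (by rw [map_mul, map_mul, hp, mul_one, one_mul]) ?_ ?_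
  · have h := (good g).copy 0 (by norm_num)
    have h' := imgN_lt (act g) 0
    rw [map_mul, map_mul, imgN_mul, imgN_mul]
    rcases hA with e | e
    · rw [e 0 (by norm_num), e _ (by omega)]
    · rw [e 0 (by norm_num), e _ (by omega), (good g).flip 0 (by norm_num)]
  · have h := (good g).copy 1040 (by norm_num)
    have h' := imgN_lt (act g) 1040
    rw [map_mul, map_mul, imgN_mul, imgN_mul]
    rcases hB with e | e
    · rw [e 1040 (by norm_num) le_rfl, e _ h' (by omega)]
    · rw [e 1040 (by norm_num) le_rfl, e _ h' (by omega), (good g).flip 1040 (by norm_num)]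

theorem com_check : ((List.range 2).all fun i =>
    sameOk ((comWord i).1 ++ (comWord i).2) (i :: ((comWord i).2 ++ (comWord i).1))) = true := by decide +kernel

theorem perfect_Gam : commutator Gam = ⊤ := by
  rw [eq_top_iff, ← cGen_closure, Subgroup.closure_le]
  have key : ∀ i < 2, cGen i ∈ commutator Gam := by
    intro i hi
    have h := com_check
    simp only [List.all_eq_true, List.mem_range] at h
    have e := eq_of_sameOk (h i hi)
    rw [show cWord (i :: ((comWord i).2 ++ (comWord i).1)) = cGen i * cWord ((comWord i).2 ++ (comWord i).1) by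
      simp [cWord, wordProd], cWord_append, cWord_append] at e
    rw [show cGen i = ⁅cWord (comWord i).1, cWord (comWord i).2⁆ by
      rw [commutatorElement_def, e]; group]
    exact Subgroup.commutator_mem_commutator (Subgroup.mem_top _) (Subgroup.mem_top _)
  rintro g (rfl | rfl)
  · exact key 0 two_pos
  · exact key 1 one_lt_two

theorem card_Gam (hR : Nat.card proj.range = 29120) : Nat.card Gam = 116480 := by
  rw [← proj.ker.card_mul_index, Subgroup.index_ker, card_ker, hR]

theorem noStem_Gam (hR : Nat.card proj.range = 29120) (p : ℕ) (hp : p.Prime) : NoStem p Gam := by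
  by_cases h2 : p = 2
  · subst h2
    refine Cfsg.Lib.Schur.noStem_of_index_prime hp UGrp noStem_UGrp ?_
    have h := UGrp.card_mul_index
    rw [card_UGrp, card_Gam hR] at h
    rw [show UGrp.index = 65 by omega]
    decide
  refine noStem_of_not_sq_dvd hp fun hd => ?_
  rw [card_Gam hR, show (116480 : ℕ) = 2 ^ 8 * (5 * (7 * 13)) by norm_num] at hd
  have hc : Nat.Coprime (p ^ 2) (2 ^ 8) := Nat.Coprime.pow _ _ ((Nat.coprime_primes hp Nat.prime_two).2 h2)
  have hd' := hc.dvd_of_dvd_mul_left hd
  have hle : p ^ 2 ≤ 5 * (7 * 13) := Nat.le_of_dvd (by norm_num) hd'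
  have : p < 22 := by nlinarith
  interval_cases p <;> revert hp hd' <;> norm_num

theorem ker_sq {g : Gam} (hg : g ∈ proj.ker) : g * g = 1 := by
  have hp : proj g = 1 := MonoidHom.mem_ker.1 hg
  obtain ⟨hA, hB⟩ := ker_vals hg
  refine ext_two (by rw [map_mul, map_one, hp, one_mul]) ?_ ?_ <;>
    rw [map_mul, map_one, imgN_mul, imgN_one (by norm_num)]
  · rcases hA with e | e
    · rw [e 0 (by norm_num), e 0 (by norm_num)]
    · rw [e 0 (by norm_num), e _ (by decide)]; decide
  · rcases hB with e | e
    · rw [e 1040 (by norm_num) le_rfl, e 1040 (by norm_num) le_rfl]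
    · rw [e 1040 (by norm_num) le_rfl, e _ (by decide) (by decide)]; decide

theorem multiplier_range (hR : Nat.card proj.range = 29120) :
    Cfsg.HasSchurMultiplier ↥proj.range (Multiplicative (ZMod 2 × ZMod 2)) := by
  have hker : proj.rangeRestrict.ker = proj.ker := MonoidHom.ker_rangeRestrict proj
  have hk : Nat.card proj.rangeRestrict.ker = 4 := by rw [hker, card_ker]
  have hsq : ∀ g : proj.rangeRestrict.ker, g ^ 2 = 1 := fun g => Subtype.ext (by
    show (g : Gam) ^ 2 = 1
    rw [pow_two]
    exact ker_sq (hker ▸ g.2))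
  haveI : Nontrivial proj.rangeRestrict.ker := Finite.one_lt_card_iff_nontrivial.1 (by omega)
  haveI : IsKleinFour proj.rangeRestrict.ker := ⟨hk, (Monoid.exponent_eq_prime_iff Nat.prime_two).2 fun g hg =>
    orderOf_eq_prime (hsq g) hg⟩
  obtain ⟨e⟩ := IsKleinFour.nonempty_mulEquiv (G₁ := proj.rangeRestrict.ker) (G₂ := Multiplicative (ZMod 2 × ZMod 2))
  have hstem : IsStemExtension proj.rangeRestrict :=
    ⟨MonoidHom.rangeRestrict_surjective _, hker ▸ ker_le_center, fun g _ => by rw [perfect_Gam]; trivial⟩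
  refine Schur.hasSchurMultiplier_of_cover ?_ hstem (noStem_Gam hR) e
  rw [commutator_def, ← Subgroup.map_top_of_surjective proj.rangeRestrict proj.rangeRestrict_surjective,
    ← Subgroup.map_commutator, ← commutator_def, perfect_Gam]

theorem multiplier {F : Type*} [Field F] [Fintype F] (hF : Fintype.card F = 8) :
    Cfsg.HasSchurMultiplier ↥(Cfsg.Lie.Sz F 4) (Multiplicative (ZMod 2 × ZMod 2)) := by
  obtain ⟨z, hz⟩ := exists_root hF
  have h := params hF hz
  obtain ⟨e0⟩ := nonempty_equiv hF hz
  obtain ⟨e1, -⟩ := Cfsg.Lib.Linear.Suz.exists_lie_equiv h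
  have hR : Nat.card proj.range = 29120 := by
    rw [Nat.card_congr e0.toEquiv, Cfsg.Lib.Linear.Suz.card_Sz' h]
    norm_num
  exact Cfsg.Lib.Schur.hasSchur_of_equiv (e0.trans e1) (multiplier_range hR)

end Cfsg.Lib.SzEight
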