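import Cfsg.Agent.Lib.SzEight.Cover
import Cfsg.Agent.Lib.SzEight.Field

/-!
# The cover maps onto the Suzuki group over eight elements
-/

set_option autoImplicit false
set_option maxRecDepth 8000
set_option linter.unusedSimpArgs false
set_option linter.unusedSectionVars false

namespace Cfsg.Lib.SzEight

open Cfsg.Lib.Concrete Cfsg.Lib.Linear.Suz Matrix

/-- A coordinate of a point of the ovoid. -/
def ovC (x : ℕ) (r : ℕ) : ℕ := tget 12 ovTab x / 8 ^ r % 8

theorem ov_gen : ∀ i : Fin 2, ∀ x : Fin 65, tget 3 (scalTab i) x ≠ 0 ∧ ∀ r : Fin 4,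
    Nat.xor (Nat.xor (gm (entC (matTab i) r 0) (ovC x 0)) (gm (entC (matTab i) r 1) (ovC x 1)))
      (Nat.xor (gm (entC (matTab i) r 2) (ovC x 2)) (gm (entC (matTab i) r 3) (ovC x 3))) =
      gm (tget 3 (scalTab i) x) (ovC (blkP (gV i (8 * (x : ℕ)))) r) := by decide +kernel

theorem ov_distinct : ((List.range 8).all fun c => (List.range 65).all fun x => (List.range 65).all fun y =>
    Nat.beq x y || !((List.range 4).all fun r => Nat.beq (gm c (ovC y r)) (ovC x r))) = true := by decide +kernel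

theorem scal_lt : ∀ i : Fin 2, ∀ x : Fin 65, tget 3 (scalTab i) x < 8 := by decide +kernel

variable {F : Type*} [Field F] [Fintype F] (hF : Fintype.card F = 8) {z : F} (hz : Root z)
include hF hz

/-- The parameters. -/
theorem params : Params F 1 := ⟨le_rfl, by rw [hF]; norm_num⟩

theorem ofC_surjective (v : F) : ∃ a : Fin 8, ofC z a = v := by
  have hb : Function.Bijective fun a : Fin 8 => ofC z a :=
    (Fintype.bijective_iff_injective_and_card _).2 ⟨fun a b h => Fin.ext (hz.injective a.isLt b.isLt h),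
      by rw [Fintype.card_fin, hF]⟩
  exact hb.2 v

theorem ofC_unit (k : Fˣ) : ∃ a : Fin 8, (a : ℕ) ≠ 0 ∧ ofC z a = k := by
  obtain ⟨a, ha⟩ := ofC_surjective hF hz (k : F)
  exact ⟨a, fun e => k.ne_zero (by rw [← ha, e]; simp [ofC]), ha⟩

theorem toMat_uC (a b : ℕ) : toMat z (uC a b) = uM 1 (ofC z a) (ofC z b) := by
  have hx : ∀ p q : ℕ, ofC z (p ^^^ q) = ofC z p + ofC z q := hz.xor
  ext i j
  fin_cases i <;> fin_cases j <;>
    simp [toMat, entC, uC, uM, th, ofC_zero, ofC_one, hx, hz.xor, hz.mul, hz.pow]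

theorem toMat_dC (k : Fˣ) {a : ℕ} (ha : ofC z a = k) : toMat z (dC a) = dM 1 k := by
  have h7 : (k : F) ^ 7 = 1 := by
    have := FiniteField.pow_card_sub_one_eq_one (k : F) k.ne_zero
    rwa [hF] at this
  have hk5 : (k : F) ^ 5 = (((k : F) ^ 2))⁻¹ := eq_inv_of_mul_eq_one_left (by rw [← pow_add]; exact h7)
  have hk4 : (k : F) ^ 4 = (((k : F) ^ 3))⁻¹ := eq_inv_of_mul_eq_one_left (by rw [← pow_add]; exact h7)
  ext i j
  fin_cases i <;> fin_cases j <;>
    simp [toMat, entC, dC, dM, ofC_zero, hz.pow, ha, hk5, hk4]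

/-- The generators in the Suzuki group. -/
noncomputable def sGen (i : ℕ) : ↥(Cfsg.Sz F 1) :=
  if i % 2 = 0 then wS (params hF hz) else
    uS (params hF hz) 1 0 * dS (params hF hz) (Units.mk0 z fun e => by have := hz.cube; rw [e] at this; simp at this)

/-- The matrix of an element. -/
abbrev valM (g : ↥(Cfsg.Sz F 1)) : Matrix (Fin 4) (Fin 4) F := g.1

omit hF hz in
theorem valM_mul (g h : ↥(Cfsg.Sz F 1)) : valM (g * h) = valM g * valM h := by
  simp [valM]

omit hF hz in
theorem valM_one : valM (1 : ↥(Cfsg.Sz F 1)) = 1 := by simp [valM]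

theorem sGen_val (i : ℕ) : valM (sGen hF hz i) = toMat z (matTab (i % 2)) := by
  rcases Nat.mod_two_eq_zero_or_one i with h | h <;> unfold sGen <;> rw [h]
  · rw [if_pos rfl, word_checks.1]
    show wM F = _
    ext a b
    fin_cases a <;> fin_cases b <;> simp [toMat, entC, wM, ofC_zero, ofC_one]
  · rw [if_neg one_ne_zero, valM_mul, word_checks.2.1, hz.toMat_mul, toMat_uC hF hz, ofC_one, ofC_zero,
      toMat_dC hF hz (Units.mk0 z fun e => by have := hz.cube; rw [e] at this; simp at this) (a := 2) (ofC_two)]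
    rfl

theorem sWord_val (W : List ℕ) : valM (wordProd (sGen hF hz) W) = toMat z (mWord W) := by
  induction W with
  | nil => simp [wordProd, mWord, toMat_one, valM]
  | cons i W ih =>
    rw [show wordProd (sGen hF hz) (i :: W) = sGen hF hz i * wordProd (sGen hF hz) W by simp [wordProd],
      valM_mul, sGen_val, ih, show mWord (i :: W) = mulC (matTab (i % 2)) (mWord W) from rfl, hz.toMat_mul]

theorem val_injective {g h : ↥(Cfsg.Sz F 1)} (e : valM g = valM h) : g = h :=
  Subtype.ext (Subtype.ext e)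

theorem sGen_closure : Subgroup.closure (Set.range fun i : Fin 2 => sGen hF hz i) = ⊤ := by
  have hmem : ∀ W : List ℕ, wordProd (sGen hF hz) W ∈ Subgroup.closure (Set.range fun i : Fin 2 => sGen hF hz i) :=
    fun W => Subgroup.list_prod_mem _ fun g hg => by
      obtain ⟨i, -, rfl⟩ := List.mem_map.1 hg
      refine Subgroup.subset_closure ⟨⟨i % 2, Nat.mod_lt _ two_pos⟩, ?_⟩
      simp only [sGen, Nat.mod_mod]
  refine eq_top_of_gens (params hF hz) _ (fun a b => ?_) (fun k => ?_) ?_
  · obtain ⟨a, rfl⟩ := ofC_surjective hF hz a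
    obtain ⟨b, rfl⟩ := ofC_surjective hF hz b
    have e : uS (params hF hz) (ofC z a) (ofC z b) = wordProd (sGen hF hz) (uWords.getD (8 * (a : ℕ) + b) []) :=
      val_injective hF hz (by
        rw [sWord_val, word_checks.2.2.1 a b, toMat_uC hF hz]
        rfl)
    rw [e]; exact hmem _
  · obtain ⟨a, ha0, ha⟩ := ofC_unit hF hz k
    have e : dS (params hF hz) k = wordProd (sGen hF hz) (dWords.getD a []) :=
      val_injective hF hz (by
        rw [sWord_val, word_checks.2.2.2 a ha0, toMat_dC hF hz k ha]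
        rfl)
    rw [e]; exact hmem _
  · exact Subgroup.subset_closure ⟨0, by simp [sGen]⟩

/-- A vector of the ovoid. -/
def ovV (z : F) (x : Fin 65) : Fin 4 → F := fun r => ofC z (ovC x r)

/-- The linked pairs. -/
noncomputable abbrev Link : Subgroup (↥(Cfsg.Sz F 1) × Equiv.Perm (Fin 65)) :=
  Subgroup.closure (Set.range fun i : Fin 2 => (sGen hF hz i, proj (cGen i)))

theorem gen_link (i : Fin 2) (x : Fin 65) : ∃ c : F, c ≠ 0 ∧
    valM (sGen hF hz i) *ᵥ ovV z x = c • ovV z (proj (cGen i) x) := by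
  obtain ⟨hne, h⟩ := ov_gen i x
  refine ⟨ofC z (tget 3 (scalTab i) x), fun e => hne (hz.injective (scal_lt i x) (by norm_num) (by rw [e, ofC_zero])), ?_⟩
  have hp : ((proj (cGen i) x : Fin 65) : ℕ) = blkP (gV i (8 * (x : ℕ))) := by
    have := proj_word [(i : ℕ)] x
    simpa [cWord, wordProd, gImg, Nat.mod_eq_of_lt i.isLt] using this
  rw [sGen_val, Nat.mod_eq_of_lt i.isLt]
  funext r
  rw [Pi.smul_apply, smul_eq_mul, ovV, hp, ← hz.mul, ← h r, hz.xor, hz.xor, hz.xor, hz.mul, hz.mul, hz.mul, hz.mul]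
  simp [Matrix.mulVec, dotProduct, Fin.sum_univ_four, toMat, ovV]
  ring

theorem link_mem {g : ↥(Cfsg.Sz F 1) × Equiv.Perm (Fin 65)} (hg : g ∈ Link hF hz) (x : Fin 65) :
    ∃ c : F, c ≠ 0 ∧ valM g.1 *ᵥ ovV z x = c • ovV z (g.2 x) := by
  induction hg using Subgroup.closure_induction generalizing x with
  | mem g hg => obtain ⟨i, rfl⟩ := hg; exact gen_link hF hz i x
  | one => exact ⟨1, one_ne_zero, by simp [valM]⟩
  | mul a b _ _ ha hb =>
    obtain ⟨c, hc, e⟩ := hb x
    obtain ⟨d, hd, e'⟩ := ha (b.2 x)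
    refine ⟨c * d, mul_ne_zero hc hd, ?_⟩
    rw [Prod.fst_mul, valM_mul, ← Matrix.mulVec_mulVec, e, Matrix.mulVec_smul, e', smul_smul, Prod.snd_mul,
      Equiv.Perm.mul_apply]
  | inv a _ ha =>
    obtain ⟨c, hc, e⟩ := ha (a.2⁻¹ x)
    refine ⟨c⁻¹, inv_ne_zero hc, ?_⟩
    rw [Equiv.Perm.inv_def, Equiv.apply_symm_apply] at e
    have e' := congrArg (fun v => c⁻¹ • (valM a.1⁻¹ *ᵥ v)) e
    simp only [Matrix.mulVec_smul, Matrix.mulVec_mulVec, ← valM_mul, inv_mul_cancel, valM_one, smul_smul,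
      inv_mul_cancel₀ hc, one_smul, Matrix.one_mulVec] at e'
    rw [Prod.fst_inv, Prod.snd_inv, ← e', Equiv.Perm.inv_def]

theorem ov_lines {x y : Fin 65} {c : F} (h : ovV z x = c • ovV z y) : x = y := by
  obtain ⟨a, rfl⟩ := ofC_surjective hF hz c
  have hd := ov_distinct
  simp only [List.all_eq_true, List.mem_range, Bool.or_eq_true, Nat.beq_eq] at hd
  refine Fin.ext ((hd a a.isLt x x.isLt y y.isLt).resolve_right ?_)
  simp only [Bool.not_eq_true', ← Bool.not_eq_true, List.all_eq_true, List.mem_range, Nat.beq_eq, not_not]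
  intro r hr
  refine hz.injective (gm_lt _ _) (Nat.mod_lt _ (by norm_num)) ?_
  have := congrFun h ⟨r, hr⟩
  rw [hz.mul]
  simpa [ovV] using this.symm

theorem fst_injective : Function.Injective ((MonoidHom.fst _ _).comp (Link hF hz).subtype) := by
  refine (injective_iff_map_eq_one _).2 fun g hg => Subtype.ext (Prod.ext hg (Equiv.ext fun x => ?_))
  have hg' : (g : ↥(Cfsg.Sz F 1) × Equiv.Perm (Fin 65)).1 = 1 := hg
  obtain ⟨c, -, e⟩ := link_mem hF hz g.2 x
  rw [hg', valM_one, Matrix.one_mulVec] at e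
  exact (ov_lines hF hz e).symm

theorem fst_surjective : Function.Surjective ((MonoidHom.fst _ _).comp (Link hF hz).subtype) := by
  rw [← MonoidHom.range_eq_top, MonoidHom.range_comp, Subgroup.range_subtype, MonoidHom.map_closure, ← Set.range_comp]
  exact sGen_closure hF hz

theorem snd_injective : Function.Injective ((MonoidHom.snd _ _).comp (Link hF hz).subtype) := by
  haveI := isSimple (params hF hz)
  rw [← MonoidHom.ker_eq_bot_iff]
  set f := (MonoidHom.fst _ _).comp (Link hF hz).subtype with hf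
  set K := ((MonoidHom.snd _ _).comp (Link hF hz).subtype).ker
  have hn : (K.map f).Normal := Subgroup.Normal.map inferInstance f (fst_surjective hF hz)
  rcases hn.eq_bot_or_eq_top with h | h
  · exact (Subgroup.map_eq_bot_iff_of_injective K (fst_injective hF hz)).1 h
  · exfalso
    obtain ⟨g, hg, e⟩ : sGen hF hz 0 ∈ K.map f := by rw [h]; exact Subgroup.mem_top _
    have hgen : (⟨(sGen hF hz (0 : Fin 2), proj (cGen (0 : Fin 2))), Subgroup.subset_closure ⟨0, rfl⟩⟩ : ↥(Link hF hz)) = g :=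
      fst_injective hF hz e.symm
    have hp : proj (cGen 0) = 1 := by rw [← hgen] at hg; exact hg
    revert hp
    decide +kernel

theorem proj_range_eq : ((MonoidHom.snd _ _).comp (Link hF hz).subtype).range = proj.range := by
  rw [MonoidHom.range_comp, Subgroup.range_subtype, MonoidHom.map_closure, ← Set.range_comp,
    MonoidHom.range_eq_map, ← cGen_closure, MonoidHom.map_closure]
  congr 1
  ext p
  constructor
  · rintro ⟨i, rfl⟩
    refine ⟨cGen i, ?_, rfl⟩
    fin_cases i
    · exact Or.inl rfl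
    · exact Or.inr rfl
  · rintro ⟨g, rfl | rfl, rfl⟩
    · exact ⟨0, rfl⟩
    · exact ⟨1, rfl⟩

theorem nonempty_equiv : Nonempty (proj.range ≃* ↥(Cfsg.Sz F 1)) :=
  ⟨((MulEquiv.subgroupCongr (proj_range_eq hF hz)).symm.trans (MonoidHom.ofInjective (snd_injective hF hz)).symm).trans
    (MulEquiv.ofBijective _ ⟨fst_injective hF hz, fst_surjective hF hz⟩)⟩

end Cfsg.Lib.SzEight
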